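import Groth.Agent.S0088
import Groth.Agent.EtLC12.QcqsAcyclic
import Groth.Agent.EtFound.AbRecollement
import Groth.Agent.EtFound.UnivInjPush
import Groth.Agent.EtFound.PushExact
import Groth.Agent.EtFound.GermSupp
import Groth.Agent.EtFound.ConstrColimSupp
import Groth.Agent.EtMVLib.ExtTools
import Groth.Agent.AlgSpLib.EtLocalInst
import Groth.Prelude.Def_EtCore
import Mathlib.AlgebraicGeometry.Noetherian
import Mathlib.AlgebraicGeometry.Morphisms.QuasiFinite
import Mathlib.FieldTheory.PurelyInseparable.Basic
import Mathlib.AlgebraicGeometry.IdealSheaf.Subscheme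

/-!
# Sheaves supported in closed points are filtered colimits of sheaves supported in finitely many
-/

set_option autoImplicit false
set_option backward.isDefEq.respectTransparency false
set_option backward.isDefEq.respectTransparency.types false
set_option linter.style.haveILetI false

noncomputable section

universe u

open CategoryTheory CategoryTheory.Limits AlgebraicGeometry Opposite Abelian

namespace Groth.Agent.EtSupp13

open Groth.Agent.EtFound

/-- the unit along an immersion is bijective on stalks at points of the image -/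
theorem isIso_stalk_unit_open {U X : Scheme.{u}} (j : U ⟶ X) [IsOpenImmersion j] (F : EtCoh.Ab X)
    {Ω : Type u} [Field Ω] [IsSepClosed Ω] (ξ : Spec (CommRingCat.of Ω) ⟶ X)
    (hξ : ξ.base (default : Spec (CommRingCat.of Ω)) ∈ Set.range j.base) :
    IsIso ((EtCoh.stalk ξ).map ((EtCoh.pullPushAdj j).unit.app F)) := by
  refine isIso_stalk_of_lift j _ ξ hξ fun k _ _ z => ?_
  refine (NatIso.isIso_map_iff (sheafFiberPullIso (A := AddCommGrpCat.{u + 1}) j z) _).1 ?_
  have := counit_isIso (A := AddCommGrpCat.{u + 1}) j (liftable_of_isOpenImmersion j) ((EtCoh.pull j).obj F)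
  have : IsIso ((EtCoh.pull j).map ((EtCoh.pullPushAdj j).unit.app F)) :=
    @IsIso.of_isIso_fac_right _ _ _ _ _ _ _ _ this (IsIso.id _) ((EtCoh.pullPushAdj j).left_triangle_components F)
  exact inferInstanceAs (IsIso ((EtCoh.stalk z).map ((EtCoh.pull j).map ((EtCoh.pullPushAdj j).unit.app F))))

/-- no morphisms into a direct image from an open where the source vanishes -/
theorem eq_zero_of_stalks {U X : Scheme.{u}} (j : U ⟶ X) {G : EtCoh.Ab X} {H : EtCoh.Ab U}
    (hG : ∀ (Ω : Type u) [Field Ω] [IsSepClosed Ω] (ξ : Spec (CommRingCat.of Ω) ⟶ X),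
      ξ.base (default : Spec (CommRingCat.of Ω)) ∈ Set.range j.base → IsZero ((EtCoh.stalk ξ).obj G))
    (f : G ⟶ (EtCoh.push j).obj H) : f = 0 := by
  have h0 : IsZero ((EtCoh.pull j).obj G) := (isZero_iff_stalks _).2 fun Ω _ _ z =>
    (hG Ω (z ≫ j) ⟨_, (Scheme.Hom.comp_apply _ _ _).symm⟩).of_iso
      ((sheafFiberPullIso (A := AddCommGrpCat.{u + 1}) j z).app G)
  exact ((EtCoh.pullPushAdj j).homEquiv G H).symm.injective (h0.eq_of_src _ _)

/-- a closed set of closed points of a noetherian scheme is finite -/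
theorem finite_of_closed_points {Y : Scheme.{u}} [TopologicalSpace.NoetherianSpace Y] {C : Set Y}
    (hC : IsClosed C) (hpt : ∀ y ∈ C, IsClosed ({y} : Set Y)) : C.Finite := by
  obtain ⟨S, hSf, hScl, hSirr, rfl⟩ :=
    TopologicalSpace.NoetherianSpace.exists_finite_set_isClosed_irreducible hC
  refine Set.Finite.sUnion hSf fun Z hZ => Set.Subsingleton.finite fun y hy z hz => ?_
  have hg : IsGenericPoint (hSirr Z hZ).genericPoint Z := (hSirr Z hZ).isGenericPoint_genericPoint (hScl Z hZ)
  have hZ' : Z = {(hSirr Z hZ).genericPoint} :=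
    hg.def.symm.trans (hpt _ ⟨Z, hZ, hg.mem⟩).closure_eq
  rw [hZ'] at hy hz
  exact hy.trans hz.symm

/-- residue fields at closed points over a separably closed field -/
theorem isSepClosed_residueField {K : Type u} [Field K] [IsSepClosed K] {X : Scheme.{u}}
    (a : X ⟶ Spec (CommRingCat.of K)) [LocallyOfFiniteType a] (x : X) (hx : IsClosed ({x} : Set X)) :
    IsSepClosed (X.residueField x) := by
  let φ : CommRingCat.of K ⟶ X.residueField x := Spec.preimage (X.fromSpecResidueField x ≫ a)
  have : IsFinite (X.fromSpecResidueField x ≫ a) := by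
    have : IsClosedImmersion (X.fromSpecResidueField x) := isClosed_singleton_iff_isClosedImmersion.1 hx
    rw [isFinite_iff_locallyOfFiniteType_of_jacobsonSpace]
    infer_instance
  have hφ : φ.hom.IsIntegral := by
    rw [← IsIntegralHom.SpecMap_iff, Spec.map_preimage]
    infer_instance
  algebraize [φ.hom]
  have : Algebra.IsAlgebraic K (X.residueField x) := Algebra.IsIntegral.isAlgebraic
  exact Algebra.IsAlgebraic.isSepClosed (F := K)

variable {X : Scheme.{u}}

/-- finite sets of closed points -/
abbrev Idx (X : Scheme.{u}) : Type (u + 1) := Finset (ULift.{u + 1} {x : X // IsClosed ({x} : Set X)})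

/-- the underlying set -/
def pts (s : Idx X) : Set X := (fun p => p.down.1) '' (s : Set (ULift.{u + 1} {x : X // IsClosed ({x} : Set X)}))

theorem finite_pts (s : Idx X) : (pts s).Finite := s.finite_toSet.image _

theorem isClosed_singleton_of_mem_pts {s : Idx X} {x : X} (hx : x ∈ pts s) : IsClosed ({x} : Set X) := by
  obtain ⟨p, -, rfl⟩ := hx
  exact p.down.2

theorem isClosed_pts (s : Idx X) : IsClosed (pts s) := by
  have h : pts s = ⋃ x ∈ pts s, ({x} : Set X) := (Set.biUnion_of_singleton _).symm
  rw [h]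
  exact (finite_pts s).isClosed_biUnion fun x hx => isClosed_singleton_of_mem_pts hx

theorem pts_mono {s t : Idx X} (h : s ≤ t) : pts s ⊆ pts t := Set.image_mono (Finset.coe_subset.2 h)

theorem exists_idx {A : Set X} (hA : A.Finite) (hcl : ∀ x ∈ A, IsClosed ({x} : Set X)) :
    ∃ t : Idx X, A ⊆ pts t := by
  classical
  let f : A → ULift.{u + 1} {x : X // IsClosed ({x} : Set X)} := fun x => ⟨⟨x.1, hcl x.1 x.2⟩⟩
  haveI := hA.fintype
  exact ⟨Finset.univ.image f, fun x hx => ⟨f ⟨x, hx⟩,
    Finset.mem_coe.2 (Finset.mem_image.2 ⟨⟨x, hx⟩, Finset.mem_univ _, rfl⟩), rfl⟩⟩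

/-- the complement of a finite set of closed points -/
def comp (s : Idx X) : X.Opens := ⟨(pts s)ᶜ, (isClosed_pts s).isOpen_compl⟩

theorem mem_range_comp_ι {s : Idx X} {x : X} : x ∈ Set.range (comp s).ι.base ↔ x ∉ pts s := by
  rw [Scheme.Opens.range_ι]
  rfl

variable (F : EtCoh.Ab X)

/-- the unit off the finite set -/
def res (s : Idx X) : F ⟶ (EtCoh.push (comp s).ι).obj ((EtCoh.pull (comp s).ι).obj F) :=
  (EtCoh.pullPushAdj (comp s).ι).unit.app F

/-- the sections supported in a finite set of closed points -/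
def part (s : Idx X) : EtCoh.Ab X := kernel (res F s)

theorem isZero_stalk_part (s : Idx X) {Ω : Type u} [Field Ω] [IsSepClosed Ω]
    (ξ : Spec (CommRingCat.of Ω) ⟶ X) (hξ : ξ.base (default : Spec (CommRingCat.of Ω)) ∉ pts s) :
    IsZero ((EtCoh.stalk ξ).obj (part F s)) := by
  have : IsIso ((EtCoh.stalk ξ).map (res F s)) :=
    isIso_stalk_unit_open (comp s).ι F ξ (mem_range_comp_ι.2 hξ)
  have h0 : (EtCoh.stalk ξ).map (kernel.ι (res F s)) = 0 := by
    rw [← cancel_mono ((EtCoh.stalk ξ).map (res F s)), ← Functor.map_comp, kernel.condition, Functor.map_zero,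
      zero_comp]
  exact IsZero.of_mono_eq_zero _ h0

theorem partIncl_res {s t : Idx X} (h : s ≤ t) : kernel.ι (res F s) ≫ res F t = 0 :=
  eq_zero_of_stalks (comp t).ι (G := part F s) (fun Ω _ _ ξ hξ =>
    isZero_stalk_part F s ξ fun hs => mem_range_comp_ι.1 hξ (pts_mono h hs)) _

/-- the system of these subsheaves -/
def parts : Idx X ⥤ EtCoh.Ab X where
  obj s := part F s
  map {s t} h := kernel.lift (res F t) (kernel.ι (res F s)) (partIncl_res F (leOfHom h))
  map_id s := (cancel_mono (kernel.ι (res F s))).1 ((kernel.lift_ι _ _ _).trans (Category.id_comp _).symm)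
  map_comp f g := (cancel_mono (kernel.ι (res F _))).1 (by
    rw [Category.assoc, kernel.lift_ι, kernel.lift_ι, kernel.lift_ι])

/-- the cocone to the sheaf -/
def partsCocone : Cocone (parts F) where
  pt := F
  ι := { app := fun s => kernel.ι (res F s)
         naturality := fun s t f => (kernel.lift_ι _ _ _).trans (Category.comp_id _).symm }

/-- a sheaf supported in closed points is the colimit of its finitely supported parts -/
theorem isIso_desc [IsLocallyNoetherian X] (hF : ∀ x ∈ EtPBC.supp F, IsClosed ({x} : Set X)) :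
    IsIso (colimit.desc (parts F) (partsCocone F)) := by
  classical
  refine (isIso_iff_stalks _).2 fun Ω _ _ ξ => (ConcreteCategory.isIso_iff_bijective _).2 ⟨?_, ?_⟩
  · refine (injective_iff_map_eq_zero ((EtCoh.stalk ξ).map (colimit.desc (parts F) (partsCocone F))).hom).2
      fun x hx => ?_
    obtain ⟨s, y, rfl⟩ := Concrete.isColimit_exists_rep _
      (isColimitOfPreserves (EtCoh.stalk ξ) (colimit.isColimit (parts F))) x
    have hy : (EtCoh.stalk ξ).map (kernel.ι (res F s)) y = 0 := by
      refine Eq.trans ?_ hx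
      exact ConcreteCategory.congr_hom
        ((congrArg (EtCoh.stalk ξ).map (colimit.ι_desc (partsCocone F) s)).symm.trans
          ((EtCoh.stalk ξ).map_comp _ _)) y
    have : y = 0 := (AddCommGrpCat.mono_iff_injective ((EtCoh.stalk ξ).map (kernel.ι (res F s)))).1 inferInstance
      (hy.trans (map_zero _).symm)
    rw [this]
    exact map_zero _
  · intro p
    obtain ⟨U, z, σ, rfl⟩ := (Scheme.pointSmallEtale ξ).toPresheafFiber_jointly_surjective p
    haveI : AlgebraicGeometry.Etale U.hom := U.prop
    haveI : LocallyOfFiniteType (U.hom : U.left ⟶ X) := inferInstance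
    haveI : IsLocallyNoetherian U.left :=
      @LocallyOfFiniteType.isLocallyNoetherian U.left X U.hom _ ‹IsLocallyNoetherian X›
    obtain ⟨A, hA, hzA, -⟩ := exists_isAffineOpen_mem_and_subset (X := U.left) (x := ptOf z) (U := ⊤) trivial
    let C : Set ↥(A : Scheme.{u}) := A.ι.base ⁻¹' germSupp F U σ
    haveI : IsAffine (A : Scheme.{u}) := hA
    haveI : TopologicalSpace.NoetherianSpace ↥(A : Scheme.{u}) := by
      haveI := IsLocallyNoetherian.component_noetherian (X := U.left) ⟨A, hA⟩
      exact noetherianSpace_of_isAffineOpen A hA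
    have hsupp : ∀ q ∈ germSupp F U σ, U.hom.base q ∈ EtPBC.supp F := fun q hq => by
      obtain ⟨L, _, _, θ, w, rfl⟩ := exists_algClosed_point U q
      rw [base_of_point w]
      refine (mem_supp_iff θ).2 fun hsub => ?_
      exact (mem_germSupp_iff σ w).1 hq (hsub.elim _ _)
    have hpt : ∀ q ∈ germSupp F U σ, IsClosed ({q} : Set U.left) := fun q hq => by
      have hcl : IsClosed (U.hom.base ⁻¹' {U.hom.base q}) := (hF _ (hsupp q hq)).preimage U.hom.continuous
      haveI : LocallyQuasiFinite (U.hom : U.left ⟶ X) := inferInstanceAs (LocallyQuasiFinite (U.hom : U.left ⟶ X))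
      have hd := (U.hom : U.left ⟶ X).isDiscrete_preimage_singleton (U.hom.base q)
      have : DiscreteTopology ↥(U.hom.base ⁻¹' {U.hom.base q}) := isDiscrete_iff_discreteTopology.1 hd
      have hq1 : IsClosed ({⟨q, rfl⟩} : Set ↥(U.hom.base ⁻¹' {U.hom.base q})) := isClosed_discrete _
      have h := hcl.isClosedEmbedding_subtypeVal.isClosedMap _ hq1
      rwa [Set.image_singleton] at h
    have hCfin : C.Finite := finite_of_closed_points ((isClosed_germSupp F U σ).preimage A.ι.continuous)
      fun y hy => by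
        have e : ({y} : Set ↥(A : Scheme.{u})) = A.ι.base ⁻¹' {A.ι.base y} := by
          ext w
          exact ⟨fun h => congrArg A.ι.base h, fun h => A.ι.isOpenEmbedding.injective h⟩
        rw [e]
        exact (hpt _ hy).preimage A.ι.continuous
    obtain ⟨t, ht⟩ := exists_idx (hCfin.image fun y => U.hom.base (A.ι.base y)) (by
      rintro _ ⟨y, hy, rfl⟩
      exact hF _ (hsupp _ hy))
    let V : X.Etale := restrictEtale U A
    let g : V ⟶ U := restrictEtaleHom U A
    obtain ⟨v, hv, -⟩ := exists_lift_point g z ⟨_, hzA⟩ rfl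
    let τ := F.obj.map g.op σ
    have hτ : (res F t).hom.app (op V) τ = 0 := by
      refine eq_of_cover ((EtCoh.pull (comp t).ι).obj F) (U := (EtCoh.bc (comp t).ι).obj V)
        ((res F t).hom.app (op V) τ) 0 (equalizerSieve_mem_of_germs _ _ _ _ fun L _ _ θ w => ?_)
      refine Eq.trans ?_ (congrArg _ (map_zero ((res F t).hom.app (op V)).hom))
      refine (germ_unit_eq_iff (comp t).ι θ F V w τ 0).2 ?_
      rw [map_zero]
      by_contra h
      rw [(Scheme.pointSmallEtale (θ ≫ (comp t).ι)).toPresheafFiber_w_apply] at h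
      have hmem := (mem_germSupp_iff σ _).2 h
      set w' := bcFiberEquiv (comp t).ι θ V w
      rw [ptOf_map] at hmem
      have hnot : V.hom.base (ptOf w') ∉ pts t := by
        erw [base_of_point w']
        exact mem_range_comp_ι.1 ⟨_, (Scheme.Hom.comp_apply _ _ _).symm⟩
      exact hnot (ht ⟨ptOf w', hmem, (Scheme.Hom.comp_apply A.ι U.hom _).symm⟩)
    let S := ShortComplex.mk (kernel.ι (res F t)) (res F t) (kernel.condition _)
    have hS : S.Exact := ShortComplex.exact_of_f_is_kernel _ (kernelIsKernel _)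
    obtain ⟨k, hk⟩ := (SiteBase.secExact_iff S V).1 (hS.map_of_mono_of_preservesKernel
      (sheafToPresheaf X.smallEtaleTopology AddCommGrpCat.{u + 1} ⋙
        (evaluation X.Etaleᵒᵖ AddCommGrpCat.{u + 1}).obj (op V)) inferInstance inferInstance) τ hτ
    refine ⟨(EtCoh.stalk ξ).map (colimit.ι (parts F) t)
      ((Scheme.pointSmallEtale ξ).toPresheafFiber V v (part F t).obj k), ?_⟩
    refine (ConcreteCategory.congr_hom
      (((EtCoh.stalk ξ).map_comp _ _).symm.trans (congrArg (EtCoh.stalk ξ).map (colimit.ι_desc (partsCocone F) t))) _).trans ?_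
    refine ((Scheme.pointSmallEtale ξ).toPresheafFiber_naturality_apply (kernel.ι (res F t)).hom V v k).trans ?_
    refine (congrArg _ hk).trans ?_
    rw [← hv]
    exact (Scheme.pointSmallEtale ξ).toPresheafFiber_w_apply g v F.obj σ

end Groth.Agent.EtSupp13
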